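import Mathlib

/-!
# Commuting involutions of a vector space
-/

set_option autoImplicit false

universe u v

namespace Groth.Agent.InvolLib

variable {K : Type u} [Field K]

theorem card_le (h2 : (2 : K) ≠ 0) : ∀ (n : ℕ) (V : Type v) [AddCommGroup V] [Module K V] [FiniteDimensional K V],
    Module.finrank K V = n → ∀ (S : Finset (V →ₗ[K] V)), (∀ f ∈ S, f ∘ₗ f = LinearMap.id) →
      (∀ f ∈ S, ∀ g ∈ S, f ∘ₗ g = g ∘ₗ f) → S.card ≤ 2 ^ n := by
  classical
  intro n
  induction n using Nat.strong_induction_on with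
  | _ n ih =>
    intro V _ _ _ hn S hinv hcomm
    by_cases hscal : ∀ f ∈ S, f = LinearMap.id ∨ f = -LinearMap.id
    · rcases Nat.eq_zero_or_pos n with rfl | hpos
      · haveI : Subsingleton V := Module.finrank_zero_iff.1 hn
        simpa using Finset.card_le_one_of_subsingleton S
      · have : S ⊆ {LinearMap.id, -LinearMap.id} := fun f hf => by simpa using hscal f hf
        calc S.card ≤ _ := Finset.card_le_card this
          _ ≤ 2 := Finset.card_le_two
          _ ≤ 2 ^ n := Nat.le_self_pow hpos.ne' 2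
    push Not at hscal
    obtain ⟨g, hg, hg1, hg2⟩ := hscal
    let P := LinearMap.ker (g - LinearMap.id)
    let Q := LinearMap.ker (g + LinearMap.id)
    have hP : ∀ x, x ∈ P ↔ g x = x := fun x => by simp [P, sub_eq_zero]
    have hQ : ∀ x, x ∈ Q ↔ g x = -x := fun x => by simp [Q, add_eq_zero_iff_eq_neg]
    have hgg : ∀ x, g (g x) = x := fun x => LinearMap.congr_fun (hinv g hg) x
    have hdec : ∀ x : V, (2 : K)⁻¹ • (x + g x) ∈ P ∧ (2 : K)⁻¹ • (x - g x) ∈ Q ∧
        x = (2 : K)⁻¹ • (x + g x) + (2 : K)⁻¹ • (x - g x) := by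
      intro x
      refine ⟨(hP _).2 (by rw [map_smul, map_add, hgg, add_comm]),
        (hQ _).2 (by rw [map_smul, map_sub, hgg, ← smul_neg, neg_sub]), ?_⟩
      rw [← smul_add, show x + g x + (x - g x) = (2 : K) • x by rw [two_smul]; abel, smul_smul, inv_mul_cancel₀ h2, one_smul]
    have hdim : Module.finrank K P + Module.finrank K Q = n := by
      have h := Submodule.finrank_sup_add_finrank_inf_eq P Q
      have hinf : P ⊓ Q = ⊥ := by
        rw [eq_bot_iff]
        rintro x ⟨hx, hy⟩
        rw [Submodule.mem_bot]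
        have e : x = -x := ((hP x).1 hx).symm.trans ((hQ x).1 hy)
        rw [eq_neg_iff_add_eq_zero, ← two_smul K] at e
        exact (smul_eq_zero.1 e).resolve_left h2
      have hsup : P ⊔ Q = ⊤ := top_le_iff.1 fun x _ => by
        rw [(hdec x).2.2]
        exact Submodule.add_mem_sup (hdec x).1 (hdec x).2.1
      rw [hinf, hsup, finrank_bot, add_zero, finrank_top, hn] at h
      exact h.symm
    have hPpos : Module.finrank K P ≠ 0 := fun h => hg2 (LinearMap.ext fun x => by
      have h' := (hdec x).1
      rw [Submodule.finrank_eq_zero.1 h, Submodule.mem_bot, smul_eq_zero] at h'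
      show g x = -x
      exact eq_neg_of_add_eq_zero_right (h'.resolve_left (inv_ne_zero h2)))
    have hQpos : Module.finrank K Q ≠ 0 := fun h => hg1 (LinearMap.ext fun x => by
      have h' := (hdec x).2.1
      rw [Submodule.finrank_eq_zero.1 h, Submodule.mem_bot, smul_eq_zero] at h'
      exact (sub_eq_zero.1 (h'.resolve_left (inv_ne_zero h2))).symm)
    let rP : (V →ₗ[K] V) → (P →ₗ[K] P) := fun f =>
      if hf : ∀ x ∈ P, f x ∈ P then f.restrict hf else LinearMap.id
    let rQ : (V →ₗ[K] V) → (Q →ₗ[K] Q) := fun f =>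
      if hf : ∀ x ∈ Q, f x ∈ Q then f.restrict hf else LinearMap.id
    have hstP : ∀ f ∈ S, ∀ x ∈ P, f x ∈ P := fun f hf x hx => (hP _).2 (by
      have h : g (f x) = f (g x) := LinearMap.congr_fun (hcomm g hg f hf) x
      rw [h, (hP x).1 hx])
    have hstQ : ∀ f ∈ S, ∀ x ∈ Q, f x ∈ Q := fun f hf x hx => (hQ _).2 (by
      have h : g (f x) = f (g x) := LinearMap.congr_fun (hcomm g hg f hf) x
      rw [h, (hQ x).1 hx, map_neg])
    have erP : ∀ f ∈ S, ∀ x : P, (rP f x : V) = f x := fun f hf x => by
      simp only [rP, dif_pos (hstP f hf)]; rfl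
    have erQ : ∀ f ∈ S, ∀ x : Q, (rQ f x : V) = f x := fun f hf x => by
      simp only [rQ, dif_pos (hstQ f hf)]; rfl
    have hcard : S.card ≤ (S.image rP).card * (S.image rQ).card := by
      rw [← Finset.card_product]
      refine Finset.card_le_card_of_injOn (fun f => (rP f, rQ f))
        (fun f hf => Finset.mem_product.2 ⟨Finset.mem_image_of_mem _ hf, Finset.mem_image_of_mem _ hf⟩) ?_
      intro f hf f' hf' he
      obtain ⟨e1, e2⟩ := Prod.ext_iff.1 he
      refine LinearMap.ext fun x => ?_
      rw [(hdec x).2.2, map_add, map_add]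
      congr 1
      · have h := congrArg Subtype.val (LinearMap.congr_fun e1 ⟨_, (hdec x).1⟩)
        rwa [erP f hf, erP f' hf'] at h
      · have h := congrArg Subtype.val (LinearMap.congr_fun e2 ⟨_, (hdec x).2.1⟩)
        rwa [erQ f hf, erQ f' hf'] at h
    have h1 := ih _ (by omega) P rfl (S.image rP)
      (fun a ha => by
        obtain ⟨f, hf, rfl⟩ := Finset.mem_image.1 ha
        refine LinearMap.ext fun x => Subtype.ext ?_
        rw [LinearMap.comp_apply, erP f hf, erP f hf]
        exact LinearMap.congr_fun (hinv f hf) x)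
      (fun a ha b hb => by
        obtain ⟨f, hf, rfl⟩ := Finset.mem_image.1 ha
        obtain ⟨f', hf', rfl⟩ := Finset.mem_image.1 hb
        refine LinearMap.ext fun x => Subtype.ext ?_
        rw [LinearMap.comp_apply, LinearMap.comp_apply, erP f hf, erP f' hf', erP f' hf', erP f hf]
        exact LinearMap.congr_fun (hcomm f hf f' hf') x)
    have h3 := ih _ (by omega) Q rfl (S.image rQ)
      (fun a ha => by
        obtain ⟨f, hf, rfl⟩ := Finset.mem_image.1 ha
        refine LinearMap.ext fun x => Subtype.ext ?_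
        rw [LinearMap.comp_apply, erQ f hf, erQ f hf]
        exact LinearMap.congr_fun (hinv f hf) x)
      (fun a ha b hb => by
        obtain ⟨f, hf, rfl⟩ := Finset.mem_image.1 ha
        obtain ⟨f', hf', rfl⟩ := Finset.mem_image.1 hb
        refine LinearMap.ext fun x => Subtype.ext ?_
        rw [LinearMap.comp_apply, LinearMap.comp_apply, erQ f hf, erQ f' hf', erQ f' hf', erQ f hf]
        exact LinearMap.congr_fun (hcomm f hf f' hf') x)
    calc S.card ≤ _ := hcard
      _ ≤ 2 ^ Module.finrank K P * 2 ^ Module.finrank K Q := Nat.mul_le_mul h1 h3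
      _ = 2 ^ n := by rw [← pow_add, hdim]

end Groth.Agent.InvolLib
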